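import Mathlib
import Cfsg.Agent.Coprime.Basic
import Cfsg.Agent.Coprime.Sylow
import Cfsg.Agent.Solvable.Basics

/-!
Coprime automorphisms of prime order fixing no involution.
-/

set_option autoImplicit false
set_option linter.style.haveILetI false
set_option linter.unusedSectionVars false

namespace CfsgLib.OddFixed

open Subgroup

universe u

variable {G : Type u} [Group G] [Finite G]

/-- An automorphism of prime order, coprime to the group, fixing no involution. -/
structure Hyp (σ : MulAut G) (r : ℕ) : Prop where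
  prime : r.Prime
  pow_eq : σ ^ r = 1
  cop : ¬ r ∣ Nat.card G
  noInvol : ∀ g : G, σ g = g → g ^ 2 = 1 → g = 1

/-- A subgroup carried into itself. -/
def Inv (σ : MulAut G) (H : Subgroup G) : Prop := ∀ x ∈ H, σ x ∈ H

theorem Inv.map_eq {σ : MulAut G} {H : Subgroup G} (hH : Inv σ H) : H.map σ.toMonoidHom = H :=
  eq_of_le_of_card_ge (map_le_iff_le_comap.2 hH) (card_map_of_injective σ.injective).ge

theorem Inv.of_char (σ : MulAut G) (H : Subgroup G) [H.Characteristic] : Inv σ H := fun x hx => by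
  have h := Subgroup.characteristic_iff_comap_eq.1 ‹H.Characteristic› σ
  exact (h.symm.le hx : _)

theorem Inv.inf {σ : MulAut G} {H K : Subgroup G} (hH : Inv σ H) (hK : Inv σ K) : Inv σ (H ⊓ K) :=
  fun x hx => ⟨hH x hx.1, hK x hx.2⟩

theorem Inv.sup {σ : MulAut G} {H K : Subgroup G} (hH : Inv σ H) (hK : Inv σ K) : Inv σ (H ⊔ K) :=
  fun _ hx => (sup_le (fun x hx => mem_sup_left (hH x hx)) (fun x hx => mem_sup_right (hK x hx)) :
    H ⊔ K ≤ (H ⊔ K).comap σ.toMonoidHom) hx

theorem Inv.normalizer {σ : MulAut G} {H : Subgroup G} (hH : Inv σ H) :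
    Inv σ (Subgroup.normalizer (H : Set G)) := by
  intro x hx
  rw [mem_normalizer_iff] at hx ⊢
  intro y
  obtain ⟨z, rfl⟩ := σ.surjective y
  have key : ∀ w, σ w ∈ H ↔ w ∈ H := fun w => by
    constructor
    · intro hw
      rw [← hH.map_eq] at hw
      obtain ⟨v, hv, e⟩ := hw
      exact σ.injective e ▸ hv
    · exact hH w
  rw [← map_inv, ← map_mul, ← map_mul, key, key]
  exact hx z

theorem Inv.centralizer {σ : MulAut G} {H : Subgroup G} (hH : Inv σ H) :
    Inv σ (Subgroup.centralizer (H : Set G)) := by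
  intro x hx
  rw [mem_centralizer_iff] at hx ⊢
  intro y hy
  have hy' : y ∈ H.map σ.toMonoidHom := by rw [hH.map_eq]; exact hy
  obtain ⟨v, hv, rfl⟩ := hy'
  show σ v * σ x = σ x * σ v
  rw [← map_mul, ← map_mul, hx v hv]

theorem Inv.normalClosure {σ : MulAut G} {H : Subgroup G} (hH : Inv σ H) :
    Inv σ (Subgroup.normalClosure (H : Set G)) := by
  haveI : ((Subgroup.normalClosure (H : Set G)).comap σ.toMonoidHom).Normal :=
    (normalClosure_normal).comap _
  exact fun x hx => (normalClosure_le_normal (fun y hy => subset_normalClosure (hH y hy)) :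
    Subgroup.normalClosure (H : Set G) ≤ (Subgroup.normalClosure (H : Set G)).comap σ.toMonoidHom) hx

/-- The restriction to an invariant subgroup. -/
noncomputable def restr (σ : MulAut G) (H : Subgroup G) (hH : Inv σ H) : MulAut H :=
  MulEquiv.ofBijective ((σ.toMonoidHom.comp H.subtype).codRestrict H fun x => hH x x.2)
    (Finite.injective_iff_bijective.1 fun a b h => Subtype.ext (σ.injective (congrArg Subtype.val h)))

theorem restr_apply (σ : MulAut G) (H : Subgroup G) (hH : Inv σ H) (x : H) :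
    ((restr σ H hH x : H) : G) = σ x := rfl

theorem restr_pow (σ : MulAut G) (H : Subgroup G) (hH : Inv σ H) (n : ℕ) (x : H) :
    (((restr σ H hH ^ n) x : H) : G) = (σ ^ n) (x : G) := by
  induction n generalizing x with
  | zero => rfl
  | succ n ih => rw [pow_succ, pow_succ, MulAut.mul_apply, MulAut.mul_apply, ih, restr_apply]

/-- The automorphism induced on a quotient. -/
noncomputable def quot (σ : MulAut G) (N : Subgroup G) [N.Normal] (hN : Inv σ N) : MulAut (G ⧸ N) :=
  QuotientGroup.congr N N σ hN.map_eq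

theorem quot_mk (σ : MulAut G) (N : Subgroup G) [N.Normal] (hN : Inv σ N) (g : G) :
    quot σ N hN (g : G ⧸ N) = ((σ g : G) : G ⧸ N) := rfl

theorem quot_pow_mk (σ : MulAut G) (N : Subgroup G) [N.Normal] (hN : Inv σ N) (n : ℕ) (g : G) :
    (quot σ N hN ^ n) (g : G ⧸ N) = (((σ ^ n) g : G) : G ⧸ N) := by
  induction n generalizing g with
  | zero => rfl
  | succ n ih => rw [pow_succ, pow_succ, MulAut.mul_apply, MulAut.mul_apply, quot_mk, ih]

variable {σ : MulAut G} {r : ℕ}

theorem fixed_pow_eq {g : G} (hg : σ g = g) (n : ℕ) : (σ ^ n) g = g := by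
  induction n with
  | zero => rfl
  | succ n ih => rw [pow_succ, MulAut.mul_apply, hg, ih]

theorem Hyp.odd_order (h : Hyp σ r) {g : G} (hg : σ g = g) : Odd (orderOf g) := by
  by_contra ho
  obtain ⟨k, hk⟩ := (Nat.not_odd_iff_even.1 ho).two_dvd
  have h1 : g ^ k = 1 := h.noInvol _ (by rw [map_pow, hg]) (by
    rw [← pow_mul, mul_comm, ← hk, pow_orderOf_eq_one])
  have h2 := orderOf_dvd_of_pow_eq_one h1
  rw [hk] at h2
  have hk0 : 0 < k := by have := orderOf_pos g; omega
  have := Nat.le_of_dvd hk0 h2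
  omega

theorem Hyp.eq_one_of_two (h : Hyp σ r) {P : Subgroup G} (hP : IsPGroup 2 P) {g : G} (hgP : g ∈ P)
    (hg : σ g = g) : g = 1 := by
  haveI : Fact (Nat.Prime 2) := ⟨Nat.prime_two⟩
  obtain ⟨k, hk⟩ := IsPGroup.iff_orderOf.1 hP ⟨g, hgP⟩
  rw [Subgroup.orderOf_mk] at hk
  have ho := h.odd_order hg
  rw [hk] at ho
  rcases k with _ | k
  · exact orderOf_eq_one_iff.1 (by rw [hk, pow_zero])
  · exact absurd ho (Nat.not_odd_iff_even.2 (even_two.pow_of_ne_zero k.succ_ne_zero))

theorem Hyp.isOfFin (h : Hyp σ r) : IsOfFinOrder σ :=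
  isOfFinOrder_iff_pow_eq_one.2 ⟨r, h.prime.pos, h.pow_eq⟩

theorem Hyp.card_dvd (h : Hyp σ r) : Nat.card (zpowers σ) ∣ r := by
  rw [Nat.card_zpowers]
  exact orderOf_dvd_of_pow_eq_one h.pow_eq

theorem Hyp.coprime (h : Hyp σ r) : (Nat.card (zpowers σ)).Coprime (Nat.card G) :=
  Nat.Coprime.coprime_dvd_left h.card_dvd ((Nat.Prime.coprime_iff_not_dvd h.prime).2 h.cop)

theorem Hyp.finite (h : Hyp σ r) : Finite (zpowers σ) :=
  Nat.finite_of_card_ne_zero fun h0 => h.prime.ne_zero (Nat.eq_zero_of_zero_dvd (h0 ▸ h.card_dvd))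

theorem inv_isInvariant (h : Hyp σ r) {H : Subgroup G} (hH : Inv σ H) :
    CfsgLib.Coprime.IsInvariant (zpowers σ) H := by
  intro a x hx
  obtain ⟨n, hn⟩ := h.isOfFin.mem_powers_iff_mem_zpowers.2 a.2
  show (a : MulAut G) x ∈ H
  rw [← hn]
  clear hn
  dsimp only
  induction n generalizing x with
  | zero => exact hx
  | succ n ih => rw [pow_succ, MulAut.mul_apply]; exact ih _ (hH x hx)

theorem smul_fixed (h : Hyp σ r) {g : G} (hg : σ g = g) (a : zpowers σ) : a • g = g := by
  obtain ⟨n, hn⟩ := h.isOfFin.mem_powers_iff_mem_zpowers.2 a.2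
  show (a : MulAut G) g = g
  rw [← hn]
  exact fixed_pow_eq hg n

/-- A fixed coset contains a fixed point. -/
theorem Hyp.fixed_in_coset (h : Hyp σ r) (N : Subgroup G) (hN : Inv σ N) {g : G}
    (hg : g⁻¹ * σ g ∈ N) : ∃ c : G, σ c = c ∧ g⁻¹ * c ∈ N := by
  haveI := h.finite
  have key : ∀ n : ℕ, g⁻¹ * (σ ^ n) g ∈ N := by
    intro n
    induction n with
    | zero => simpa using N.one_mem
    | succ n ih =>
      have h1 : σ (g⁻¹ * (σ ^ n) g) ∈ N := hN _ ih
      rw [map_mul, map_inv] at h1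
      rw [pow_succ', MulAut.mul_apply,
        show g⁻¹ * σ ((σ ^ n) g) = g⁻¹ * σ g * ((σ g)⁻¹ * σ ((σ ^ n) g)) by group]
      exact N.mul_mem hg h1
  obtain ⟨c, hc, hc'⟩ := CfsgLib.Coprime.exists_fixed_mem_coset_of_isSolvable (A := zpowers σ) N
    (inv_isInvariant h hN) (h.coprime.coprime_dvd_right N.card_subgroup_dvd_card) g fun a => by
      obtain ⟨n, hn⟩ := h.isOfFin.mem_powers_iff_mem_zpowers.2 a.2
      show g⁻¹ * (a : MulAut G) g ∈ N
      rw [← hn]
      exact key n
  exact ⟨c, hc ⟨σ, mem_zpowers σ⟩, hc'⟩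

theorem Hyp.sub (h : Hyp σ r) (H : Subgroup G) (hH : Inv σ H) : Hyp (restr σ H hH) r where
  prime := h.prime
  pow_eq := MulEquiv.ext fun x => Subtype.ext (by rw [restr_pow, h.pow_eq]; rfl)
  cop hd := h.cop (hd.trans H.card_subgroup_dvd_card)
  noInvol g hg h2 := Subtype.ext (h.noInvol g (congrArg Subtype.val hg) (by
    rw [← Subgroup.coe_pow, h2]; rfl))

theorem Hyp.quotient (h : Hyp σ r) (N : Subgroup G) [N.Normal] (hN : Inv σ N) :
    Hyp (quot σ N hN) r where
  prime := h.prime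
  pow_eq := MulEquiv.ext fun x => by
    obtain ⟨g, rfl⟩ := QuotientGroup.mk_surjective x
    rw [quot_pow_mk, h.pow_eq]
    rfl
  cop hd := h.cop (hd.trans (Subgroup.card_quotient_dvd_card N))
  noInvol x hx h2 := by
    obtain ⟨g, rfl⟩ := QuotientGroup.mk_surjective x
    rw [quot_mk, eq_comm, QuotientGroup.eq] at hx
    obtain ⟨c, hc, hgc⟩ := h.fixed_in_coset N hN hx
    rw [show (g : G ⧸ N) = (c : G ⧸ N) from QuotientGroup.eq.2 hgc] at h2 ⊢
    have h3 : Odd (orderOf (c : G ⧸ N)) :=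
      (h.odd_order hc).of_dvd_nat (orderOf_map_dvd (QuotientGroup.mk' N) c)
    have h4 := orderOf_dvd_of_pow_eq_one h2
    rcases (Nat.dvd_prime Nat.prime_two).1 h4 with h5 | h5
    · exact orderOf_eq_one_iff.1 h5
    · rw [h5] at h3; exact absurd h3 (by decide)

theorem Hyp.exists_sylow (h : Hyp σ r) (p : ℕ) [Fact p.Prime] :
    ∃ P : Sylow p G, Inv σ (P : Subgroup G) := by
  haveI := h.finite
  obtain ⟨P, hP⟩ := CfsgLib.Coprime.exists_invariant_sylow (A := zpowers σ) h.coprime p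
  exact ⟨P, fun x hx => hP ⟨σ, mem_zpowers σ⟩ x hx⟩

theorem Inv.map_char {H : Subgroup G} (hH : Inv σ H) (K : Subgroup H) [K.Characteristic] :
    Inv σ (K.map H.subtype) := by
  rintro _ ⟨y, hy, rfl⟩
  exact ⟨restr σ H hH y, Inv.of_char (restr σ H hH) K y hy, rfl⟩

/-- A fixed element carrying `x` to `σ x` forces `x` to be fixed. -/
theorem Hyp.eq_of_conj (h : Hyp σ r) {x k : G} (hk : σ k = k) (he : k * x * k⁻¹ = σ x) : σ x = x := by
  have hn : ∀ n : ℕ, (σ ^ n) x = k ^ n * x * (k ^ n)⁻¹ := by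
    intro n
    induction n with
    | zero => simp
    | succ n ih =>
      rw [pow_succ', MulAut.mul_apply, ih, map_mul, map_mul, map_inv, map_pow, hk, ← he, pow_succ]
      group
  have h1 : k ^ r * x * (k ^ r)⁻¹ = x := by rw [← hn r, h.pow_eq]; rfl
  have hco : r.Coprime (orderOf k) :=
    Nat.Coprime.coprime_dvd_right (orderOf_dvd_natCard k) ((Nat.Prime.coprime_iff_not_dvd h.prime).2 h.cop)
  obtain ⟨m, hm⟩ := exists_pow_eq_self_of_coprime hco
  have h2 : Commute (k ^ r) x := mul_inv_eq_iff_eq_mul.1 h1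
  have h3 := h2.pow_left m
  rw [hm] at h3
  rw [← he, h3.eq, mul_inv_cancel_right]

end CfsgLib.OddFixed
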