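import Mathlib
import Cfsg.Agent.Coprime.Sylow
import Cfsg.Agent.Solvable.Fitting
import Cfsg.Prelude.Def_Local

/-!
Two-local facts: cores of subgroups, solvable groups, and two involutions.
-/

set_option autoImplicit false
set_option linter.style.haveILetI false
set_option linter.unusedSectionVars false

namespace CfsgLib.OddFixed

open Subgroup CfsgLib.Solvable

universe u

variable {G : Type u} [Group G] [Finite G]

/-- The odd core of a subgroup, as a subgroup of the whole group. -/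
def coreOf (H : Subgroup G) : Subgroup G := (Cfsg.pPrimeCore 2 H).map H.subtype

theorem coreOf_le (H : Subgroup G) : coreOf H ≤ H := map_subtype_le _

theorem coreOf_odd (H : Subgroup G) : Odd (Nat.card (coreOf H)) := by
  rw [coreOf, card_map_of_injective H.subtype_injective]
  exact Nat.coprime_two_right.1 (coprime_card_pPrimeCore 2)

theorem le_normalizer_coreOf (H : Subgroup G) : H ≤ Subgroup.normalizer (coreOf H : Set G) := by
  intro x hx
  refine Subgroup.mem_normalizer_fintype ?_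
  rintro _ ⟨y, hy, rfl⟩
  exact ⟨⟨x, hx⟩ * y * ⟨x, hx⟩⁻¹, pPrimeCore_normal 2 |>.conj_mem y hy _, rfl⟩

theorem le_coreOf {H N : Subgroup G} (hN : N ≤ H) (hn : H ≤ Subgroup.normalizer (N : Set G))
    (ho : Odd (Nat.card N)) : N ≤ coreOf H := by
  haveI : (N.subgroupOf H).Normal := (normal_subgroupOf_iff_le_normalizer hN).2 hn
  have h : N.subgroupOf H ≤ Cfsg.pPrimeCore 2 H := le_pPrimeCore 2 inferInstance (by
    rw [Nat.card_congr (subgroupOfEquivOfLe hN).toEquiv]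
    exact Nat.coprime_two_right.2 ho)
  calc N = (N.subgroupOf H).map H.subtype := (map_subgroupOf_eq_of_le hN).symm
    _ ≤ coreOf H := map_mono h

theorem coreOf_map (e : MulAut G) (H : Subgroup G) :
    (coreOf H).map e.toMonoidHom ≤ coreOf (H.map e.toMonoidHom) := by
  refine le_coreOf (map_mono (coreOf_le H)) ?_ ?_
  · exact (map_mono (le_normalizer_coreOf H)).trans (le_normalizer_map _)
  · rw [card_map_of_injective e.injective]
    exact coreOf_odd H

theorem eq_one_of_two_of_odd {P O : Subgroup G} (hP : IsPGroup 2 P) (hO : Odd (Nat.card O)) :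
    P ⊓ O = ⊥ := by
  haveI : Fact (Nat.Prime 2) := ⟨Nat.prime_two⟩
  refine Subgroup.inf_eq_bot_of_coprime ?_
  obtain ⟨k, hk⟩ := hP.exists_card_eq
  rw [hk]
  exact (Nat.coprime_two_left.2 hO).pow_left k

section Solvable

variable (S : Sylow 2 G)

theorem map_inf_pPrimePCore :
    (((S : Subgroup G) ⊓ Cfsg.pPrimePCore 2 G).map (QuotientGroup.mk' (Cfsg.pPrimeCore 2 G))) =
      Cfsg.pCore 2 (G ⧸ Cfsg.pPrimeCore 2 G) := by
  haveI : Fact (Nat.Prime 2) := ⟨Nat.prime_two⟩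
  refine le_antisymm ?_ fun y hy => ?_
  · rintro _ ⟨x, hx, rfl⟩
    exact hx.2
  · have h := CfsgLib.Fitting.pCore_le_sylow
      (S.mapSurjective (QuotientGroup.mk'_surjective (Cfsg.pPrimeCore 2 G))) hy
    rw [Sylow.coe_mapSurjective] at h
    obtain ⟨x, hx, rfl⟩ := h
    exact ⟨x, ⟨hx, hy⟩, rfl⟩

theorem exists_mem_inv_mul_mem {y : G} (hy : y ∈ Cfsg.pPrimePCore 2 G) :
    ∃ p ∈ (S : Subgroup G) ⊓ Cfsg.pPrimePCore 2 G, p⁻¹ * y ∈ Cfsg.pPrimeCore 2 G := by
  have h : QuotientGroup.mk' _ y ∈ Cfsg.pCore 2 (G ⧸ Cfsg.pPrimeCore 2 G) := hy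
  rw [← map_inf_pPrimePCore S] at h
  obtain ⟨p, hp, he⟩ := h
  exact ⟨p, hp, QuotientGroup.eq.1 he⟩

/-- The Frattini argument for the two-part of the second core. -/
theorem exists_normalizer_mul (g : G) :
    ∃ n ∈ Subgroup.normalizer (((S : Subgroup G) ⊓ Cfsg.pPrimePCore 2 G : Subgroup G) : Set G),
      n⁻¹ * g ∈ Cfsg.pPrimeCore 2 G := by
  haveI : Fact (Nat.Prime 2) := ⟨Nat.prime_two⟩
  set O := Cfsg.pPrimeCore 2 G with hO
  set K := Cfsg.pPrimePCore 2 G with hK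
  haveI : K.Normal := by
    rw [hK]
    exact Subgroup.Normal.comap inferInstance _
  set P := (S : Subgroup G) ⊓ K with hP
  have hP2 : IsPGroup 2 P := S.2.to_le inf_le_left
  let T : Sylow 2 K :=
    { toSubgroup := P.subgroupOf K
      isPGroup' := hP2.of_equiv (subgroupOfEquivOfLe inf_le_right).symm
      is_maximal' := by
        intro R hR hle
        refine le_antisymm (fun y hy => ?_) hle
        obtain ⟨p, hp, hpy⟩ := exists_mem_inv_mul_mem S y.2
        have h1 : p⁻¹ * (y : G) ∈ R.map K.subtype ⊓ O :=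
          ⟨(R.map K.subtype).mul_mem ((R.map K.subtype).inv_mem ⟨⟨p, hp.2⟩, hle hp, rfl⟩) ⟨y, hy, rfl⟩, hpy⟩
        rw [eq_one_of_two_of_odd (hR.map K.subtype) (Nat.coprime_two_right.1 (coprime_card_pPrimeCore 2)),
          Subgroup.mem_bot, inv_mul_eq_one] at h1
        show (y : G) ∈ P
        exact h1 ▸ hp }
  have h := Sylow.normalizer_sup_eq_top T
  rw [show (T : Subgroup K).map K.subtype = P from map_subgroupOf_eq_of_le inf_le_right] at h
  obtain ⟨n, hn, k, hk, rfl⟩ := (mem_sup_of_normal_right).1 (h.ge (mem_top g))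
  obtain ⟨p, hp, hpk⟩ := exists_mem_inv_mul_mem S hk
  refine ⟨n * p, Subgroup.mul_mem _ hn (le_normalizer hp), ?_⟩
  rwa [show (n * p)⁻¹ * (n * k) = p⁻¹ * k by group]

/-- The centralizer of the two-part of the second core lies in the second core. -/
theorem centralizer_inf_le [Group.IsSolvable G] :
    Subgroup.centralizer (((S : Subgroup G) ⊓ Cfsg.pPrimePCore 2 G : Subgroup G) : Set G) ≤
      Cfsg.pPrimePCore 2 G := by
  haveI : Fact (Nat.Prime 2) := ⟨Nat.prime_two⟩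
  intro y hy
  refine CfsgLib.Fitting.centralizer_pCore_le
    (CfsgLib.Fitting.pPrimeCore_quotient_eq_bot (G := G) 2) (mem_centralizer_iff.2 ?_)
  intro z hz
  rw [SetLike.mem_coe, ← map_inf_pPrimePCore S] at hz
  obtain ⟨x, hx, rfl⟩ := hz
  rw [← map_mul, ← map_mul, mem_centralizer_iff.1 hy x hx]

/-- Strong fusion control in a Sylow subgroup factors a solvable group over its core. -/
theorem exists_mem_core_mul [Group.IsSolvable G] (M : Subgroup G) (hSM : (S : Subgroup G) ≤ M)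
    (hctl : ∀ (T : Subgroup G) (n : G), T ≤ S → (∀ x ∈ T, n * x * n⁻¹ ∈ (S : Subgroup G)) →
      ∃ m ∈ M, ∀ x ∈ T, n * x * n⁻¹ = m * x * m⁻¹) (g : G) :
    ∃ m ∈ M, m⁻¹ * g ∈ Cfsg.pPrimeCore 2 G := by
  obtain ⟨n, hn, hng⟩ := exists_normalizer_mul S g
  obtain ⟨m, hm, hmn⟩ := hctl _ n inf_le_left fun x hx =>
    ((mem_normalizer_iff.1 hn x).1 hx).1
  have hy : m⁻¹ * n ∈ Cfsg.pPrimePCore 2 G := centralizer_inf_le S (mem_centralizer_iff.2 fun x hx =>
    calc x * (m⁻¹ * n) = m⁻¹ * (m * x * m⁻¹) * n := by group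
      _ = m⁻¹ * (n * x * n⁻¹) * n := by rw [hmn x hx]
      _ = m⁻¹ * n * x := by group)
  obtain ⟨p, hp, hpy⟩ := exists_mem_inv_mul_mem S hy
  refine ⟨m * p, M.mul_mem hm (hSM hp.1), ?_⟩
  rw [show (m * p)⁻¹ * g = p⁻¹ * (m⁻¹ * n) * (n⁻¹ * g) by group]
  exact Subgroup.mul_mem _ hpy hng

/-- An odd subgroup normalised by a Sylow two-subgroup of a solvable group lies in the core. -/
theorem odd_le_core [Group.IsSolvable G] {U : Subgroup G} (hU : Odd (Nat.card U))
    (hn : (S : Subgroup G) ≤ Subgroup.normalizer (U : Set G)) : U ≤ Cfsg.pPrimeCore 2 G := by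
  haveI : Fact (Nat.Prime 2) := ⟨Nat.prime_two⟩
  set f := QuotientGroup.mk' (Cfsg.pPrimeCore 2 G) with hf
  set P := Cfsg.pCore 2 (G ⧸ Cfsg.pPrimeCore 2 G) with hP
  have hPn : P ≤ Subgroup.normalizer ((U.map f : Subgroup _) : Set (G ⧸ Cfsg.pPrimeCore 2 G)) := by
    rw [hP, ← map_inf_pPrimePCore S]
    exact (map_mono (inf_le_left.trans hn)).trans (le_normalizer_map f)
  have hdisj : P ⊓ U.map f = ⊥ :=
    eq_one_of_two_of_odd (isPGroup_pCore 2) (hU.of_dvd_nat (card_map_dvd U f))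
  intro u hu
  have h1 : f u ∈ P := by
    refine CfsgLib.Fitting.centralizer_pCore_le
      (CfsgLib.Fitting.pPrimeCore_quotient_eq_bot (G := G) 2) (mem_centralizer_iff.2 fun z hz => ?_)
    have h2 : z * f u * z⁻¹ * (f u)⁻¹ ∈ P ⊓ U.map f := by
      refine ⟨?_, (U.map f).mul_mem ((mem_normalizer_iff.1 (hPn hz) _).1 ⟨u, hu, rfl⟩)
        ((U.map f).inv_mem ⟨u, hu, rfl⟩)⟩
      rw [show z * f u * z⁻¹ * (f u)⁻¹ = z * (f u * z⁻¹ * (f u)⁻¹) by group]
      exact P.mul_mem hz ((pCore_normal 2).conj_mem _ (P.inv_mem hz) _)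
    rw [hdisj, Subgroup.mem_bot, mul_inv_eq_one, mul_inv_eq_iff_eq_mul] at h2
    exact h2
  have h3 : f u ∈ P ⊓ U.map f := ⟨h1, u, hu, rfl⟩
  rw [hdisj, Subgroup.mem_bot] at h3
  exact (QuotientGroup.eq_one_iff u).1 h3

end Solvable

/-- The elements of a group generated by two involutions. -/
theorem mem_closure_pair {u b t : G} (hu : u * u = 1) (hb : b * b = 1)
    (ht : t ∈ closure ({u, b} : Set G)) : ∃ i : ℤ, t = (u * b) ^ i ∨ t = (u * b) ^ i * u := by
  have hi : SemiconjBy u (u * b) (u * b)⁻¹ := by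
    show u * (u * b) = (u * b)⁻¹ * u
    rw [mul_inv_rev, inv_eq_of_mul_eq_one_right hb, inv_eq_of_mul_eq_one_right hu, mul_assoc b,
      hu, mul_one, ← mul_assoc, hu, one_mul]
  have hconj : ∀ i : ℤ, u * (u * b) ^ i = (u * b) ^ (-i) * u := fun i => by
    rw [← inv_zpow']
    exact (hi.zpow_right i).eq
  have hbu : b = (u * b) ^ (-1 : ℤ) * u := by
    rw [← hconj, zpow_one, ← mul_assoc, hu, one_mul]
  have hclU : ∀ y : G, (∃ i : ℤ, y = (u * b) ^ i ∨ y = (u * b) ^ i * u) →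
      ∃ i : ℤ, u * y = (u * b) ^ i ∨ u * y = (u * b) ^ i * u := by
    rintro y ⟨i, rfl | rfl⟩
    · exact ⟨-i, Or.inr (hconj i)⟩
    · exact ⟨-i, Or.inl (by rw [← mul_assoc, hconj, mul_assoc, hu, mul_one])⟩
  have hclB : ∀ y : G, (∃ i : ℤ, y = (u * b) ^ i ∨ y = (u * b) ^ i * u) →
      ∃ i : ℤ, b * y = (u * b) ^ i ∨ b * y = (u * b) ^ i * u := by
    intro y hy
    obtain ⟨i, hi | hi⟩ := hclU y hy
    · refine ⟨-1 + i, Or.inl ?_⟩
      rw [zpow_add, ← hi, ← mul_assoc, ← hbu]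
    · refine ⟨-1 + i, Or.inr ?_⟩
      rw [zpow_add, mul_assoc, ← hi, ← mul_assoc, ← hbu]
  induction ht using Subgroup.closure_induction_left with
  | one => exact ⟨0, Or.inl (zpow_zero _).symm⟩
  | mul_left x hx y _ hy =>
    rcases hx with rfl | hx
    · exact hclU y hy
    · rw [Set.mem_singleton_iff] at hx
      exact hx ▸ hclB y hy
  | inv_mul_cancel x hx y _ hy =>
    rcases hx with rfl | hx
    · rw [inv_eq_of_mul_eq_one_right hu]
      exact hclU y hy
    · rw [Set.mem_singleton_iff] at hx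
      rw [hx, inv_eq_of_mul_eq_one_right hb]
      exact hclB y hy

/-- A product of two involutions of that group which squares to one commutes with the first. -/
theorem pair_commute {u b t : G} (hu : u * u = 1) (hb : b * b = 1)
    (ht : t ∈ closure ({u, b} : Set G)) (hw : t * u * t⁻¹ * b * (t * u * t⁻¹ * b) = 1) :
    u * (t * u * t⁻¹ * b) = t * u * t⁻¹ * b * u := by
  have hi : SemiconjBy u (u * b) (u * b)⁻¹ := by
    show u * (u * b) = (u * b)⁻¹ * u
    rw [mul_inv_rev, inv_eq_of_mul_eq_one_right hb, inv_eq_of_mul_eq_one_right hu, mul_assoc b,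
      hu, mul_one, ← mul_assoc, hu, one_mul]
  have hconj : ∀ i : ℤ, u * (u * b) ^ i = (u * b) ^ (-i) * u := fun i => by
    rw [← inv_zpow']
    exact (hi.zpow_right i).eq
  have hR : ∀ i : ℤ, (u * b) ^ i * u * ((u * b) ^ i)⁻¹ * b = (u * b) ^ (i + i + 1) := fun i => by
    rw [← zpow_neg, mul_assoc ((u * b) ^ i), hconj, neg_neg, zpow_add_one, zpow_add]
    simp only [mul_assoc]
  obtain ⟨i, hi' | hi'⟩ := mem_closure_pair hu hb ht
  all_goals
    have he : t * u * t⁻¹ * b = (u * b) ^ (i + i + 1) := by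
      rw [← hR i, hi']
      try group
    rw [he] at hw ⊢
    rw [hconj, zpow_neg, inv_eq_of_mul_eq_one_right hw]

/-- A strongly closed abelian two-subgroup: fusion into a subgroup containing the centralizers. -/
theorem conj_mem_of_not_conj (S : Sylow 2 G) (A M : Subgroup G) (hAS : A ≤ S)
    (hexp : ∀ x ∈ A, x * x = 1) (hclosed : ∀ x ∈ A, ∀ g : G, g * x * g⁻¹ ∈ (S : Subgroup G) → g * x * g⁻¹ ∈ A)
    (hSc : ∀ x ∈ A, ∀ s ∈ (S : Subgroup G), s * x = x * s)
    (hcent : ∀ x ∈ A, x ≠ 1 → Subgroup.centralizer ({x} : Set G) ≤ M)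
    {a b : G} (ha : a ∈ A) (hb : b ∈ A) (hb1 : b ≠ 1) (hnc : ∀ g : G, g * a * g⁻¹ ≠ b) (g : G) :
    g * a * g⁻¹ ∈ M := by
  haveI : Fact (Nat.Prime 2) := ⟨Nat.prime_two⟩
  set u := g * a * g⁻¹ with hu
  have hu2 : u * u = 1 := by rw [hu, show g * a * g⁻¹ * (g * a * g⁻¹) = g * (a * a) * g⁻¹ by group, hexp a ha, mul_one, mul_inv_cancel]
  set T := closure ({u, b} : Set G) with hT
  have huT : u ∈ T := subset_closure (Set.mem_insert _ _)
  have hbT : b ∈ T := subset_closure (Set.mem_insert_of_mem _ rfl)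
  have h2g : ∀ {X : Type u} [Group X] (x : X), x * x = 1 → IsPGroup 2 (zpowers x) := fun x hx y =>
    ⟨1, Subtype.ext (by
      obtain ⟨i, hi⟩ := mem_zpowers_iff.1 y.2
      rw [Subgroup.coe_pow, ← hi, pow_one, pow_two, ← (Commute.refl x).mul_zpow, hx, one_zpow]
      rfl)⟩
  obtain ⟨P, hP⟩ := (h2g (⟨b, hbT⟩ : T) (Subtype.ext (hexp b hb))).exists_le_sylow
  obtain ⟨P', hP'⟩ := (h2g (⟨u, huT⟩ : T) (Subtype.ext hu2)).exists_le_sylow
  obtain ⟨t, ht⟩ := MulAction.exists_smul_eq T P' P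
  have hu'P : t * ⟨u, huT⟩ * t⁻¹ ∈ (P : Subgroup T) := by
    rw [← ht]
    exact ⟨_, hP' (mem_zpowers _), rfl⟩
  obtain ⟨P₁, hP₁⟩ := (P.2.map T.subtype).exists_le_sylow
  obtain ⟨k, hk⟩ := MulAction.exists_smul_eq G P₁ S
  have hmv : ∀ x ∈ (P : Subgroup T), k * (x : G) * k⁻¹ ∈ (S : Subgroup G) := fun x hx => by
    rw [← hk]
    exact ⟨_, hP₁ ⟨x, hx, rfl⟩, rfl⟩
  set u' := (t : G) * u * (t : G)⁻¹ with hu'
  have h1 : k * u' * k⁻¹ ∈ A := by
    have e : k * u' * k⁻¹ = (k * t * g) * a * (k * t * g)⁻¹ := by rw [hu', hu]; group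
    rw [e]
    refine hclosed a ha _ ?_
    rw [← e]
    exact hmv _ hu'P
  have h2 : k * b * k⁻¹ ∈ A := hclosed b hb k (hmv ⟨b, hbT⟩ (hP (mem_zpowers _)))
  set w := u' * b with hw
  have hwA : k * w * k⁻¹ ∈ A := by
    rw [hw, show k * (u' * b) * k⁻¹ = k * u' * k⁻¹ * (k * b * k⁻¹) by group]
    exact A.mul_mem h1 h2
  have hcomm : u' * b = b * u' := by
    have h3 := hSc _ h2 _ (hAS h1)
    rw [show k * u' * k⁻¹ * (k * b * k⁻¹) = k * (u' * b) * k⁻¹ by group,
      show k * b * k⁻¹ * (k * u' * k⁻¹) = k * (b * u') * k⁻¹ by group] at h3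
    exact mul_left_cancel (mul_right_cancel h3)
  have hw1 : w ≠ 1 := by
    intro e
    refine hnc ((t : G) * g) ?_
    rw [show (t : G) * g * a * ((t : G) * g)⁻¹ = u' by rw [hu', hu]; group]
    rw [hw, mul_eq_one_iff_eq_inv, inv_eq_of_mul_eq_one_right (hexp b hb)] at e
    exact e
  have hwb : w * b = b * w := by rw [hw, ← mul_assoc b, ← hcomm]
  have hwu : u * w = w * u := pair_commute hu2 (hexp b hb) t.2 (by
    have := hexp _ hwA
    rw [show k * w * k⁻¹ * (k * w * k⁻¹) = k * (w * w) * k⁻¹ by group, conj_eq_one_iff] at this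
    exact this)
  have hSb : (S : Subgroup G) ≤ Subgroup.centralizer ({b} : Set G) := fun s hs =>
    mem_centralizer_singleton_iff.2 (hSc b hb s hs)
  have hwC : w ∈ Subgroup.centralizer ({b} : Set G) := mem_centralizer_singleton_iff.2 hwb
  let SC : Sylow 2 (Subgroup.centralizer ({b} : Set G)) := S.subtype hSb
  obtain ⟨R, hR⟩ := (h2g (⟨w, hwC⟩ : Subgroup.centralizer ({b} : Set G)) (Subtype.ext (by
    have := hexp _ hwA
    rw [show k * w * k⁻¹ * (k * w * k⁻¹) = k * (w * w) * k⁻¹ by group, conj_eq_one_iff] at this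
    exact this))).exists_le_sylow
  obtain ⟨c, hc⟩ := MulAction.exists_smul_eq (Subgroup.centralizer ({b} : Set G)) R SC
  have hcw : (c : G) * w * (c : G)⁻¹ ∈ (S : Subgroup G) := by
    have : c * ⟨w, hwC⟩ * c⁻¹ ∈ (SC : Subgroup _) := by
      rw [← hc]
      exact ⟨_, hR (mem_zpowers _), rfl⟩
    exact this
  have hcwA : (c : G) * w * (c : G)⁻¹ ∈ A := by
    have e : (c : G) * w * (c : G)⁻¹ = ((c : G) * k⁻¹) * (k * w * k⁻¹) * ((c : G) * k⁻¹)⁻¹ := by group
    rw [e]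
    exact hclosed _ hwA _ (e ▸ hcw)
  have hcM : (c : G) ∈ M := hcent b hb hb1 c.2
  have hcu : (c : G) * u * (c : G)⁻¹ ∈ M := by
    refine hcent _ hcwA (fun e => hw1 (conj_eq_one_iff.1 e)) (mem_centralizer_singleton_iff.2 ?_)
    rw [show (c : G) * u * (c : G)⁻¹ * ((c : G) * w * (c : G)⁻¹) = (c : G) * (u * w) * (c : G)⁻¹ by group,
      hwu]
    group
  have := M.mul_mem (M.mul_mem (M.inv_mem hcM) hcu) hcM
  rwa [show (c : G)⁻¹ * ((c : G) * u * (c : G)⁻¹) * (c : G) = u by group] at this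

end CfsgLib.OddFixed
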