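import Cfsg.Agent.OddFixed.Solvable
import Cfsg.Agent.OddFixed.Local
import Cfsg.Agent.WS.Functor
import Cfsg.Agent.ZStar.Final
import Cfsg.Agent.OddEnd.FourteenFinal
import Cfsg.Agent.SFT.Reduction
import Cfsg.Agent.S0217
import Cfsg.Agent.ZJ.Involve

/-!
A group without a section `S₄` that has a coprime automorphism of prime order fixing no involution is
solvable.
-/

set_option autoImplicit false
set_option linter.style.haveILetI false
set_option linter.unusedSectionVars false
set_option maxHeartbeats 1600000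

namespace CfsgLib.OddFixed

open Subgroup CfsgLib.Solvable

universe u

variable {G : Type u} [Group G] [Finite G] {σ : MulAut G} {r : ℕ}

theorem map_centralizer_singleton (e : MulAut G) (a : G) :
    (Subgroup.centralizer ({a} : Set G)).map e.toMonoidHom = Subgroup.centralizer ({e a} : Set G) := by
  ext x
  rw [mem_map_equiv, mem_centralizer_singleton_iff, mem_centralizer_singleton_iff]
  constructor
  · intro hx
    have := congrArg e hx
    simpa using this
  · intro hx
    apply e.injective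
    simpa using hx

theorem solvable_of_le {H K : Subgroup G} (h : H ≤ K) (hK : Group.IsSolvable K) : Group.IsSolvable H :=
  haveI := hK; Group.isSolvable_of_isSolvable_injective (f := Subgroup.inclusion h) (Subgroup.inclusion_injective h)

/-- A normal subgroup of odd index contains the two-subgroups. -/
theorem le_of_odd_index {P N : Subgroup G} [N.Normal] (hP : IsPGroup 2 P) (hN : ¬ 2 ∣ N.index) : P ≤ N := by
  haveI : Fact (Nat.Prime 2) := ⟨Nat.prime_two⟩
  have h : P.map (QuotientGroup.mk' N) = ⊥ := by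
    have h2 := eq_one_of_two_of_odd (hP.map (QuotientGroup.mk' N)) (O := (⊤ : Subgroup (G ⧸ N))) (by
      rw [Subgroup.card_top, ← Subgroup.index_eq_card]
      exact Nat.odd_iff.2 (Nat.two_dvd_ne_zero.1 hN))
    rwa [inf_top_eq] at h2
  rw [Subgroup.map_eq_bot_iff, QuotientGroup.ker_mk'] at h
  exact h

/-- The center of a Sylow subgroup, in the whole group. -/
abbrev zOf (S : Subgroup G) : Subgroup G := S ⊓ Subgroup.centralizer (S : Set G)

/-- The normalizer of a Sylow subgroup acts on its center through fixed elements. -/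
theorem Hyp.conj_eq_fixed (h : Hyp σ r) (S : Sylow 2 G) (M : Subgroup G) (hMi : Inv σ M)
    [Group.IsSolvable M] (hSM : (S : Subgroup G) ≤ M) (hMS : M ≤ Subgroup.normalizer ((S : Subgroup G) : Set G))
    {m : G} (hm : m ∈ M) :
    ∃ c, σ c = c ∧ c ∈ M ∧ ∀ z ∈ zOf (S : Subgroup G), m * z * m⁻¹ = c * z * c⁻¹ := by
  obtain ⟨c, hc, hcm⟩ := (h.sub M hMi).solvable_structure.2 ⟨m, hm⟩
  refine ⟨c, congrArg Subtype.val hc, c.2, fun z hz => ?_⟩
  obtain ⟨p, hp, hpo⟩ := exists_mem_inv_mul_mem (S.subtype hSM) hcm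
  set o : M := p⁻¹ * (⟨m, hm⟩⁻¹ * c) with ho
  have hpS : (p : G) ∈ (S : Subgroup G) := hp.1
  have hoz : (o : G) * z = z * o := by
    have hn : M ≤ Subgroup.normalizer (coreOf M : Set G) := le_normalizer_coreOf M
    have hoc : (o : G) ∈ coreOf M := ⟨o, hpo, rfl⟩
    have h1 : (o : G) * z * (o : G)⁻¹ * z⁻¹ ∈ (S : Subgroup G) ⊓ coreOf M := by
      refine ⟨(S : Subgroup G).mul_mem ((mem_normalizer_iff.1 (hMS o.2) z).1 hz.1) (inv_mem hz.1), ?_⟩
      rw [show (o : G) * z * (o : G)⁻¹ * z⁻¹ = (o : G) * (z * (o : G)⁻¹ * z⁻¹) by group]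
      exact (coreOf M).mul_mem hoc ((mem_normalizer_iff.1 (hn (hSM hz.1)) _).1 (inv_mem hoc))
    rw [eq_one_of_two_of_odd S.2 (coreOf_odd M), Subgroup.mem_bot, mul_inv_eq_one, mul_inv_eq_iff_eq_mul] at h1
    exact h1
  have hpz : (p : G) * z = z * p := mem_centralizer_iff.1 hz.2 p hpS
  have hc' : (c : G) = m * ((p : G) * (o : G)) := by
    rw [ho]
    simp
  calc m * z * m⁻¹ = m * ((p : G) * z) * (p : G)⁻¹ * m⁻¹ := by rw [hpz]; group
    _ = m * (p : G) * (z * o) * (o : G)⁻¹ * (p : G)⁻¹ * m⁻¹ := by group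
    _ = (c : G) * z * (c : G)⁻¹ := by rw [← hoz, hc']; group

theorem false_of_minimal (h : Hyp σ r) (hfree : ¬ Cfsg.Involves (Equiv.Perm (Fin 4)) G)
    (hns : ¬ Group.IsSolvable G) (hsub : ∀ H : Subgroup G, Inv σ H → H ≠ ⊤ → Group.IsSolvable H)
    (hsimp : ∀ N : Subgroup G, N.Normal → Inv σ N → N ≠ ⊥ → N = ⊤) : False := by
  haveI : Fact (Nat.Prime 2) := ⟨Nat.prime_two⟩
  have heven : 2 ∣ Nat.card G := by
    by_contra hd
    exact hns (CfsgLib.OddEnd.odd_solvable G (Nat.odd_iff.2 (Nat.two_dvd_ne_zero.1 hd)))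
  have hr2 : r ≠ 2 := fun e => h.cop (e ▸ heven)
  have hO : Cfsg.pPrimeCore 2 G = ⊥ := by
    by_contra hne
    have := hsimp _ inferInstance (inv_pPrimeCore σ 2) hne
    refine hns (CfsgLib.OddEnd.odd_solvable G ?_)
    have ho := odd_card_pPrimeCore (G := G)
    rwa [this, Subgroup.card_top] at ho
  have hZG : Subgroup.center G = ⊥ := by
    by_contra hne
    have := hsimp _ inferInstance (Inv.of_char σ _) hne
    exact hns (Group.isSolvable_of_comm fun a b => mem_center_iff.1 (this.ge (mem_top b)) a)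
  obtain ⟨S, hSi⟩ := h.exists_sylow 2
  have hS1 : (S : Subgroup G) ≠ ⊥ := S.ne_bot_of_dvd_card heven
  have hStop : (S : Subgroup G) ≠ ⊤ := fun e => hns (by
    haveI : Group.IsNilpotent G :=
      ((S.2.of_equiv (MulEquiv.subgroupCongr e)).of_equiv Subgroup.topEquiv).isNilpotent
    exact inferInstance)
  have hnorm : ∀ U : Subgroup G, U ≠ ⊥ → U ≤ S → Inv σ U → Subgroup.normalizer (U : Set G) ≠ ⊤ := by
    intro U hU hUS hUi e
    exact hStop (eq_top_iff.2 ((hsimp U (normalizer_eq_top_iff.1 e) hUi hU).ge.trans hUS))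
  -- the largest nice subgroup
  haveI : Nontrivial (S : Subgroup G) := (nontrivial_iff_ne_bot _).2 hS1
  haveI := CfsgLib.WS.wFun_characteristic (S : Subgroup G)
  have hWeq : (CfsgLib.WS.wFun (S : Subgroup G)).map (S : Subgroup G).subtype =
      CfsgLib.WS.wOf (S : Subgroup G) := CfsgLib.WS.induced_wFun _
  set W := CfsgLib.WS.wOf (S : Subgroup G) with hW
  have hWi : Inv σ W := hWeq ▸ hSi.map_char _
  have hW1 : W ≠ ⊥ := by
    rw [← hWeq, Ne, Subgroup.map_eq_bot_iff_of_injective _ (subtype_injective _)]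
    exact CfsgLib.WS.wFun_ne_bot S.2
  set N := Subgroup.normalizer (W : Set G) with hN
  have hSN : (S : Subgroup G) ≤ N := by
    intro s hs
    refine Subgroup.mem_normalizer_fintype ?_
    rw [← hWeq]
    rintro _ ⟨y, hy, rfl⟩
    exact ⟨⟨s, hs⟩ * y * ⟨s, hs⟩⁻¹, (normal_of_characteristic _).conj_mem y hy _, rfl⟩
  haveI hNsol : Group.IsSolvable N :=
    hsub N hWi.normalizer (hnorm W hW1 (CfsgLib.WS.wOf_le _) hWi)
  set M := Subgroup.normalizer ((S : Subgroup G) : Set G) with hM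
  have hSM : (S : Subgroup G) ≤ M := le_normalizer
  have hMi : Inv σ M := hSi.normalizer
  haveI hMsol : Group.IsSolvable M := hsub M hMi (hnorm _ hS1 le_rfl hSi)
  -- the normalizer of the Sylow subgroup controls strong fusion
  have hctl : ∀ (T : Set G) (g : G), T ⊆ (S : Subgroup G) → (∀ x ∈ T, g * x * g⁻¹ ∈ (S : Subgroup G)) →
      ∃ m ∈ M, ∀ x ∈ T, g * x * g⁻¹ = m * x * m⁻¹ := by
    intro T g hT hg
    obtain ⟨x, hx, hxg⟩ := (CfsgLib.WS.controls_wOf hfree S T hT).2 g (by
      rintro _ ⟨a, ha, rfl⟩; exact hg a ha)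
    have hindex := (h.sub N hWi.normalizer).solvable_structure.1
    haveI : (Cfsg.pPrimePCore 2 N).Normal := Subgroup.Normal.comap inferInstance _
    have hle : ((S.subtype hSN : Sylow 2 N) : Subgroup N) ≤ Cfsg.pPrimePCore 2 N :=
      le_of_odd_index (S.subtype hSN).2 hindex
    obtain ⟨n, hn, hno⟩ := exists_normalizer_mul (S.subtype hSN) (⟨x, hx⟩ : N)
    rw [inf_eq_left.2 hle] at hn
    have hnM : (n : G) ∈ M := by
      refine Subgroup.mem_normalizer_fintype fun s hs => ?_
      exact (mem_normalizer_iff.1 hn (⟨s, hSN hs⟩ : N)).1 hs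
    set o : G := (n : G)⁻¹ * x with ho
    have hoc : o ∈ coreOf N := ⟨_, hno, rfl⟩
    refine ⟨n, hnM, fun a ha => ?_⟩
    have h1 : o * a * o⁻¹ ∈ (S : Subgroup G) := by
      refine (mem_normalizer_iff.1 hnM _).2 ?_
      rw [ho, show (n : G) * ((n : G)⁻¹ * x * a * ((n : G)⁻¹ * x)⁻¹) * (n : G)⁻¹ = x * a * x⁻¹ by group,
        ← hxg a ha]
      exact hg a ha
    have h2 : o * a * o⁻¹ * a⁻¹ ∈ (S : Subgroup G) ⊓ coreOf N := by
      refine ⟨(S : Subgroup G).mul_mem h1 (inv_mem (hT ha)), ?_⟩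
      rw [show o * a * o⁻¹ * a⁻¹ = o * (a * o⁻¹ * a⁻¹) by group]
      exact (coreOf N).mul_mem hoc
        ((mem_normalizer_iff.1 (le_normalizer_coreOf N (hSN (hT ha))) _).1 (inv_mem hoc))
    rw [eq_one_of_two_of_odd S.2 (coreOf_odd N), Subgroup.mem_bot, mul_inv_eq_one] at h2
    rw [hxg a ha]
    conv_rhs => rw [← h2]
    rw [ho]
    group
  set Z := zOf (S : Subgroup G) with hZ
  have hZi : Inv σ Z := hSi.inf hSi.centralizer
  have hMZ : ∀ m ∈ M, ∀ z ∈ Z, m * z * m⁻¹ ∈ Z := by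
    intro m hm z hz
    refine ⟨(mem_normalizer_iff.1 hm z).1 hz.1, mem_centralizer_iff.2 fun s hs => ?_⟩
    have hs' : m⁻¹ * s * m ∈ (S : Subgroup G) := by
      have := (mem_normalizer_iff.1 (M.inv_mem hm) s).1 hs
      rwa [inv_inv] at this
    calc s * (m * z * m⁻¹) = m * ((m⁻¹ * s * m) * z) * m⁻¹ := by group
      _ = m * (z * (m⁻¹ * s * m)) * m⁻¹ := by rw [mem_centralizer_iff.1 hz.2 _ hs']
      _ = m * z * m⁻¹ * s := by group
  have hfixc : ∀ m ∈ M, ∃ c, σ c = c ∧ c ∈ M ∧ ∀ z ∈ Z, m * z * m⁻¹ = c * z * c⁻¹ := fun m hm =>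
    h.conj_eq_fixed S M hMi hSM le_rfl hm
  have hpowZ : ∀ i : ℕ, ∀ z ∈ Z, (σ ^ i) z ∈ Z := by
    intro i
    induction i with
    | zero => exact fun z hz => hz
    | succ i ih => intro z hz; rw [pow_succ', MulAut.mul_apply]; exact hZi _ (ih z hz)
  have hSC : ∀ a ∈ Z, (S : Subgroup G) ≤ Subgroup.centralizer ({a} : Set G) := fun a ha s hs =>
    mem_centralizer_singleton_iff.2 (mem_centralizer_iff.1 ha.2 s hs)
  -- the centralizers of central involutions are solvable
  have hDsol : ∀ a ∈ Z, a * a = 1 → a ≠ 1 →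
      Group.IsSolvable (Subgroup.centralizer ({a} : Set G)) := by
    intro a ha ha2 ha1
    set D := Subgroup.centralizer ({a} : Set G) with hD
    set B := Subgroup.closure (Set.range fun i : ℕ => (σ ^ i) a) with hB
    have hBZ : B ≤ Z := (closure_le _).2 (by rintro _ ⟨i, rfl⟩; exact hpowZ i a ha)
    have hBD : B ≤ D := (hBZ.trans inf_le_left).trans (hSC a ha)
    have hBi : Inv σ B := fun x hx => ((closure_le _).2 (by
      rintro _ ⟨i, rfl⟩
      refine Subgroup.mem_comap.2 (subset_closure ⟨i + 1, ?_⟩)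
      show (σ ^ (i + 1)) a = σ ((σ ^ i) a)
      rw [pow_succ', MulAut.mul_apply]) : B ≤ B.comap σ.toMonoidHom) hx
    set π := QuotientGroup.mk' (Cfsg.pPrimeCore 2 D) with hπ
    have hBc : B.subgroupOf D ≤ (Subgroup.center _).comap π := by
      have hle : B ≤ ((Subgroup.center _).comap π).map D.subtype := by
        refine (closure_le _).2 ?_
        rintro _ ⟨i, rfl⟩
        have hbD : (σ ^ i) a ∈ D := hBD (subset_closure ⟨i, rfl⟩)
        refine ⟨⟨_, hbD⟩, ?_, rfl⟩
        have hord : orderOf (⟨_, hbD⟩ : D) = 2 := by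
          refine orderOf_eq_prime ?_ ?_
          · exact Subtype.ext (by
              show (σ ^ i) a ^ 2 = 1
              rw [pow_two, ← map_mul, ha2, map_one])
          · intro e
            refine ha1 ((σ ^ i).injective ?_)
            rw [map_one]
            exact congrArg Subtype.val e
        obtain ⟨K, hKn, hKo, hK⟩ := CfsgLib.ZStar.zstar_of_sylow (S.subtype (hSC a ha)) hord fun g hg => by
          have hga : (g : G) * a * (g : G)⁻¹ = a := by
            rw [mul_inv_eq_iff_eq_mul]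
            exact mem_centralizer_singleton_iff.1 g.2
          obtain ⟨m, hm, hmg⟩ := hctl {a, (σ ^ i) a} (g : G)
            (by rintro x (rfl | rfl); exacts [ha.1, (hpowZ i a ha).1])
            (by rintro x (rfl | rfl); exacts [hga.symm ▸ ha.1, hg])
          obtain ⟨c, hc, -, hcz⟩ := hfixc m hm
          refine Subtype.ext ?_
          show (g : G) * (σ ^ i) a * (g : G)⁻¹ = (σ ^ i) a
          rw [hmg _ (Set.mem_insert_of_mem _ rfl), hcz _ (hpowZ i a ha)]
          have hca : c * a * c⁻¹ = a := by rw [← hcz a ha, ← hmg a (Set.mem_insert _ _), hga]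
          have := congrArg (σ ^ i) hca
          rwa [map_mul, map_mul, map_inv, fixed_pow_eq hc] at this
        have hKle : K ≤ Cfsg.pPrimeCore 2 D := le_pPrimeCore 2 hKn (Nat.coprime_two_right.2 hKo)
        refine Subgroup.mem_comap.2 (mem_center_iff.2 fun y => ?_)
        obtain ⟨g, rfl⟩ := QuotientGroup.mk'_surjective _ y
        have h1 := (QuotientGroup.eq_one_iff _).2 (hKle (hK g))
        rw [← QuotientGroup.mk'_apply, map_mul, map_mul, map_mul, map_inv, map_inv, mul_inv_eq_one,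
          mul_inv_eq_iff_eq_mul] at h1
        exact h1.symm
      intro x hx
      obtain ⟨y, hy, e⟩ := hle hx
      exact (Subtype.ext e : y = x) ▸ hy
    have hB2 : IsPGroup 2 B := S.2.to_le (hBZ.trans inf_le_left)
    haveI : Group.IsNilpotent B := hB2.isNilpotent
    haveI : Group.IsSolvable B := inferInstance
    have hcopB : (Nat.card B).Coprime (Nat.card (coreOf D)) := by
      obtain ⟨k, hk⟩ := hB2.exists_card_eq
      rw [hk]
      exact (Nat.coprime_two_left.2 (coreOf_odd D)).pow_left k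
    have hCle : Subgroup.centralizer (B : Set G) ≤ D := fun x hx => mem_centralizer_singleton_iff.2
      (mem_centralizer_iff.1 hx a (subset_closure ⟨0, rfl⟩)).symm
    haveI : Group.IsSolvable (Subgroup.centralizer (B : Set G)) := hsub _ hBi.centralizer fun e => by
      have hac : a ∈ Subgroup.center G := mem_center_iff.2 fun y =>
        (mem_centralizer_iff.1 (e.ge (mem_top y)) a (subset_closure ⟨0, rfl⟩)).symm
      rw [hZG, Subgroup.mem_bot] at hac
      exact ha1 hac
    haveI : Group.IsSolvable (D ⧸ Cfsg.pPrimeCore 2 D) := by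
      refine Group.isSolvable_of_surjective (f := π.comp (Subgroup.inclusion hCle)) fun y => ?_
      obtain ⟨g, rfl⟩ := QuotientGroup.mk'_surjective _ y
      obtain ⟨c, hc, hgc⟩ := CfsgLib.Coprime.exists_commute_mem_coset B (coreOf D)
        (hBD.trans (le_normalizer_coreOf D)) hcopB (g : G) fun b hb => by
          have h1 : π ⟨b, hBD hb⟩ * π g = π g * π ⟨b, hBD hb⟩ :=
            (mem_center_iff.1 (hBc (x := (⟨b, hBD hb⟩ : D)) hb) (π g)).symm
          rw [← map_mul, ← map_mul] at h1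
          refine ⟨g⁻¹ * (⟨b, hBD hb⟩ * g * (⟨b, hBD hb⟩ : D)⁻¹), (QuotientGroup.eq_one_iff _).1 ?_, rfl⟩
          show π (g⁻¹ * (⟨b, hBD hb⟩ * g * (⟨b, hBD hb⟩ : D)⁻¹)) = 1
          rw [map_mul, map_mul π (⟨b, hBD hb⟩ * g), h1, ← map_mul, ← map_mul]
          exact (congrArg π (by group)).trans (map_one π)
      refine ⟨⟨c, mem_centralizer_iff.2 hc⟩, ?_⟩
      obtain ⟨w, hw, e⟩ := hgc
      refine (QuotientGroup.eq.2 ?_).symm
      have e' : g⁻¹ * (⟨c, hCle (mem_centralizer_iff.2 hc)⟩ : D) = w := Subtype.ext e.symm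
      show g⁻¹ * (⟨c, hCle (mem_centralizer_iff.2 hc)⟩ : D) ∈ Cfsg.pPrimeCore 2 D
      rw [e']
      exact hw
    haveI : Group.IsSolvable (Cfsg.pPrimeCore 2 D) :=
      CfsgLib.OddEnd.odd_solvable _ odd_card_pPrimeCore
    exact Group.isSolvable_of_ker_le_range (Cfsg.pPrimeCore 2 D).subtype π (by simp [hπ])
  have hDM : ∀ a ∈ Z, a * a = 1 → a ≠ 1 → ∀ g ∈ Subgroup.centralizer ({a} : Set G),
      ∃ m ∈ M, m⁻¹ * g ∈ coreOf (Subgroup.centralizer ({a} : Set G)) := by
    intro a ha ha2 ha1 g hg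
    set D := Subgroup.centralizer ({a} : Set G) with hD
    haveI := hDsol a ha ha2 ha1
    obtain ⟨m, hm, hmg⟩ := exists_mem_core_mul (S.subtype (hSC a ha)) (M.subgroupOf D)
      (fun x hx => hSM hx) (fun T n hT hn => by
        have hna : (n : G) * a * (n : G)⁻¹ = a := by
          rw [mul_inv_eq_iff_eq_mul]
          exact mem_centralizer_singleton_iff.1 n.2
        obtain ⟨m, hm, hmn⟩ := hctl (insert a (D.subtype '' (T : Set D))) (n : G)
          (by rintro x (rfl | ⟨y, hy, rfl⟩); exacts [ha.1, hT hy])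
          (by rintro x (rfl | ⟨y, hy, rfl⟩); exacts [hna.symm ▸ ha.1, hn y hy])
        have hmD : m ∈ D := by
          refine mem_centralizer_singleton_iff.2 ?_
          rw [← mul_inv_eq_iff_eq_mul, ← hmn a (Set.mem_insert _ _), hna]
        exact ⟨⟨m, hmD⟩, hm, fun x hx => Subtype.ext (hmn x (Set.mem_insert_of_mem _ ⟨x, hx, rfl⟩))⟩)
      (⟨g, hg⟩ : D)
    exact ⟨m, hm, _, hmg, rfl⟩
  -- the elementary subgroup of the center
  have hZcomm : ∀ x ∈ Z, ∀ y ∈ Z, x * y = y * x := fun x hx y hy => mem_centralizer_iff.1 hy.2 x hx.1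
  let A : Subgroup G :=
    { carrier := {x | x ∈ Z ∧ x * x = 1}
      one_mem' := ⟨Z.one_mem, one_mul 1⟩
      mul_mem' := fun {x y} hx hy => ⟨Z.mul_mem hx.1 hy.1, by
        rw [mul_assoc, ← mul_assoc y, hZcomm y hy.1 x hx.1, mul_assoc, hy.2, mul_one, hx.2]⟩
      inv_mem' := fun {x} hx => ⟨Z.inv_mem hx.1, by rw [← mul_inv_rev, hx.2, inv_one]⟩ }
  have hAS : A ≤ (S : Subgroup G) := fun x hx => hx.1.1
  have hAi : Inv σ A := fun x hx => ⟨hZi x hx.1, by rw [← map_mul, hx.2, map_one]⟩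
  have hAM : ∀ m ∈ M, ∀ x ∈ A, m * x * m⁻¹ ∈ A := fun m hm x hx => ⟨hMZ m hm x hx.1, by
    rw [show m * x * m⁻¹ * (m * x * m⁻¹) = m * (x * x) * m⁻¹ by group, hx.2, mul_one, mul_inv_cancel]⟩
  have hclosed : ∀ x ∈ A, ∀ g : G, g * x * g⁻¹ ∈ (S : Subgroup G) → g * x * g⁻¹ ∈ A := by
    intro x hx g hg
    obtain ⟨m, hm, hmg⟩ := hctl {x} g (Set.singleton_subset_iff.2 (hAS hx))
      (fun y hy => by rw [Set.mem_singleton_iff.1 hy]; exact hg)
    rw [hmg x rfl]
    exact hAM m hm x hx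
  have hAfpf : ∀ x ∈ A, σ x = x → x = 1 := fun x hx hxs => h.eq_one_of_two S.2 (hAS hx) hxs
  have hnotconj : ∀ x ∈ A, x ≠ 1 → ∀ g : G, g * x * g⁻¹ ≠ σ x := by
    intro x hx hx1 g e
    obtain ⟨m, hm, hmg⟩ := hctl {x} g (Set.singleton_subset_iff.2 (hAS hx))
      (fun y hy => by rw [Set.mem_singleton_iff.1 hy, e]; exact hAS (hAi x hx))
    obtain ⟨c, hc, -, hcz⟩ := hfixc m hm
    exact hx1 (hAfpf x hx (h.eq_of_conj hc (by rw [← hcz x hx.1, ← hmg x rfl, e])))
  obtain ⟨a₀, ha₀, ha₀1⟩ : ∃ a ∈ A, a ≠ 1 := by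
    haveI := S.2.center_nontrivial
    obtain ⟨z, hz⟩ := exists_prime_orderOf_dvd_card' 2 (G := Subgroup.center (S : Subgroup G)) (by
      obtain ⟨k, hk0, hk⟩ := (S.2.to_subgroup (Subgroup.center (S : Subgroup G))).nontrivial_iff_card.1
        inferInstance
      rw [hk]
      exact dvd_pow_self 2 hk0.ne')
    have hz2 : z * z = 1 := (pow_two z).symm.trans (orderOf_dvd_iff_pow_eq_one.1 hz.dvd)
    refine ⟨((z : (S : Subgroup G)) : G), ⟨⟨(z : (S : Subgroup G)).2, mem_centralizer_iff.2 fun s hs => ?_⟩, ?_⟩, ?_⟩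
    · exact congrArg Subtype.val (mem_center_iff.1 z.2 ⟨s, hs⟩)
    · exact congrArg (fun w : Subgroup.center (S : Subgroup G) => ((w : (S : Subgroup G)) : G)) hz2
    · intro e
      rw [show z = 1 from Subtype.ext (Subtype.ext e), orderOf_one] at hz
      exact absurd hz (by decide)
  have hA2 : IsPGroup 2 A := S.2.to_le hAS
  have hrank : 2 ^ 3 ≤ Nat.card A := by
    by_contra hlt
    have hle4 : Nat.card A ≤ 4 := by
      obtain ⟨k, hk⟩ := hA2.exists_card_eq
      rw [hk] at hlt ⊢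
      have hk2 : k ≤ 2 := by
        by_contra hk3
        exact hlt (Nat.pow_le_pow_right two_pos (by omega))
      calc 2 ^ k ≤ 2 ^ 2 := Nat.pow_le_pow_right two_pos hk2
        _ = 4 := rfl
    set a := a₀
    have h1 : σ a ≠ a := fun e => ha₀1 (hAfpf a ha₀ e)
    have h2 : σ (σ a) ≠ a := by
      intro e
      obtain ⟨k, hk⟩ := h.prime.odd_of_ne_two hr2
      have h2k : ∀ j : ℕ, (σ ^ (2 * j)) a = a := by
        intro j
        induction j with
        | zero => rfl
        | succ j ih => rw [mul_add, mul_one, pow_succ', pow_succ', MulAut.mul_apply, MulAut.mul_apply, ih, e]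
      have h3 := DFunLike.congr_fun h.pow_eq a
      rw [hk, pow_succ', MulAut.mul_apply, h2k k] at h3
      exact h1 h3
    have ha0' : ∀ {x : G}, x ≠ 1 → σ x ≠ 1 := fun hx e => hx (σ.injective (e.trans (map_one σ).symm))
    have hset : ({1, a, σ a, σ (σ a)} : Set G) = (A : Set G) := by
      refine Set.eq_of_subset_of_ncard_le ?_ ?_ (Set.toFinite _)
      · rintro x (rfl | rfl | rfl | rfl)
        exacts [A.one_mem, ha₀, hAi _ ha₀, hAi _ (hAi _ ha₀)]
      · rw [Set.ncard_insert_of_notMem, Set.ncard_insert_of_notMem, Set.ncard_pair]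
        · exact hle4
        · exact fun e => h1 (σ.injective e).symm
        · rintro (e | e)
          exacts [h1 e.symm, h2 e.symm]
        · rintro (e | e | e)
          exacts [ha₀1 e.symm, ha0' ha₀1 e.symm, ha0' (ha0' ha₀1) e.symm]
    have hcases : ∀ x ∈ A, x = 1 ∨ x = a ∨ x = σ a ∨ x = σ (σ a) := fun x hx => by
      have hx' : x ∈ ({1, a, σ a, σ (σ a)} : Set G) := hset.ge hx
      exact hx'
    have h333 : σ (σ (σ a)) = a := by
      rcases hcases _ (hAi _ (hAi _ (hAi _ ha₀))) with e | e | e | e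
      · exact absurd e (ha0' (ha0' (ha0' ha₀1)))
      · exact e
      · exact absurd (σ.injective e) h2
      · exact absurd (σ.injective (σ.injective e)) h1
    have hiso : ∀ g : G, g * a * g⁻¹ ∈ (S : Subgroup G) → g * a * g⁻¹ = a := by
      intro g hg
      obtain ⟨m, hm, hmg⟩ := hctl {a} g (Set.singleton_subset_iff.2 (hAS ha₀))
        (fun y hy => by rw [Set.mem_singleton_iff.1 hy]; exact hg)
      obtain ⟨c, hc, -, hcz⟩ := hfixc m hm
      have he : g * a * g⁻¹ = c * a * c⁻¹ := by rw [hmg a rfl, hcz a ha₀.1]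
      rcases hcases _ (hclosed a ha₀ g hg) with e | e | e | e
      · exact absurd (conj_eq_one_iff.1 e) ha₀1
      · exact e
      · exact absurd e (hnotconj a ha₀ ha₀1 g)
      · exfalso
        refine hnotconj a ha₀ ha₀1 (c * c) ?_
        rw [he] at e
        have h4 := congrArg (fun x => σ (σ x)) e
        simp only [map_mul, map_inv, hc, h333] at h4
        rw [show c * c * a * (c * c)⁻¹ = c * (c * a * c⁻¹) * c⁻¹ by group, e, h4]
    obtain ⟨K, hKn, hKo, hK⟩ := CfsgLib.ZStar.zstar_of_sylow S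
      (orderOf_eq_prime (by rw [pow_two, ha₀.2]) ha₀1) hiso
    have hK1 : K ≤ ⊥ := hO ▸ le_pPrimeCore 2 hKn (Nat.coprime_two_right.2 hKo)
    have : a ∈ Subgroup.center G := mem_center_iff.2 fun g => by
      have h4 := Subgroup.mem_bot.1 (hK1 (hK g))
      rw [mul_inv_eq_one, mul_inv_eq_iff_eq_mul] at h4
      exact h4.symm
    rw [hZG, Subgroup.mem_bot] at this
    exact ha₀1 this
  -- the signalizer functor
  let θ : G → Subgroup G := fun a => coreOf (Subgroup.centralizer ({a} : Set G))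
  have hθ := Cfsg.Agent.S0217.result (p := 2) A (fun x hx y hy => hZcomm x hx.1 y hy.1)
    (fun x hx => by rw [pow_two, hx.2]) hrank θ
    (fun a _ _ => coreOf_le _)
    (fun a _ _ => Nat.two_dvd_ne_zero.2 (Nat.odd_iff.1 (coreOf_odd _)))
    (fun a ha _ b hb x hx => (mem_normalizer_iff.1
      (le_normalizer_coreOf _ (hSC a ha.1 (hAS hb))) x).1 hx)
    (fun a ha ha1 => solvable_of_le (coreOf_le _) (hDsol a ha.1 ha.2 ha1))
    (fun a ha ha1 b hb hb1 => by
      set D := Subgroup.centralizer ({b} : Set G) with hD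
      haveI := hDsol b hb.1 hb.2 hb1
      set X := θ a ⊓ D with hX
      have h1 : X.subgroupOf D ≤ Cfsg.pPrimeCore 2 D := by
        refine odd_le_core (S.subtype (hSC b hb.1)) ?_ ?_
        · rw [Nat.card_congr (subgroupOfEquivOfLe inf_le_right).toEquiv]
          exact (coreOf_odd _).of_dvd_nat (card_dvd_of_le inf_le_left)
        · intro s hs
          refine Subgroup.mem_normalizer_fintype fun x hx => ?_
          exact ⟨(mem_normalizer_iff.1 (le_normalizer_coreOf _ (hSC a ha.1 hs)) (x : G)).1 hx.1,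
            (s * x * s⁻¹).2⟩
      intro x hx
      exact ⟨⟨x, hx.2⟩, h1 (x := (⟨x, hx.2⟩ : D)) hx, rfl⟩)
  set W₀ := ⨆ a : {a : G // a ∈ A ∧ a ≠ 1}, θ a with hW₀
  have hW₀map : ∀ e : MulAut G, (∀ x ∈ A, e x ∈ A) → W₀.map e.toMonoidHom ≤ W₀ := by
    intro e he
    rw [hW₀, Subgroup.map_iSup]
    refine iSup_le fun a => ?_
    refine le_trans ?_ (le_iSup_of_le (f := fun a : {a : G // a ∈ A ∧ a ≠ 1} => θ a)
      ⟨e a.1, he _ a.2.1, fun h1 => a.2.2 (e.injective (h1.trans (map_one e).symm))⟩ le_rfl)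
    refine (coreOf_map e _).trans ?_
    rw [map_centralizer_singleton]
  have hW₀i : Inv σ W₀ := fun x hx => hW₀map σ hAi ⟨x, hx, rfl⟩
  have hMW₀ : M ≤ Subgroup.normalizer (W₀ : Set G) := fun m hm =>
    Subgroup.mem_normalizer_fintype fun x hx => hW₀map (MulAut.conj m) (hAM m hm) ⟨x, hx, rfl⟩
  obtain ⟨M₁, hM₁top, hMM₁, hW₀M₁⟩ : ∃ M₁ : Subgroup G, M₁ ≠ ⊤ ∧ M ≤ M₁ ∧ W₀ ≤ M₁ := by
    by_cases hb : W₀ = ⊥
    · exact ⟨M, hnorm _ hS1 le_rfl hSi, le_rfl, hb ▸ bot_le⟩
    · refine ⟨Subgroup.normalizer (W₀ : Set G), fun e => ?_, hMW₀, le_normalizer⟩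
      have htop := hsimp W₀ (normalizer_eq_top_iff.1 e) hW₀i hb
      exact hθ.1 (by rw [htop, Subgroup.card_top]; exact heven)
  have hcent : ∀ x ∈ A, x ≠ 1 → Subgroup.centralizer ({x} : Set G) ≤ M₁ := by
    intro x hx hx1 g hg
    obtain ⟨m, hm, hmg⟩ := hDM x hx.1 hx.2 hx1 g hg
    have h1 : m⁻¹ * g ∈ W₀ :=
      le_iSup_of_le (f := fun a : {a : G // a ∈ A ∧ a ≠ 1} => θ a) ⟨x, hx, hx1⟩ le_rfl hmg
    simpa using M₁.mul_mem (hMM₁ hm) (hW₀M₁ h1)
  -- every conjugate of an element of the subgroup lies in the proper subgroup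
  have hall : A ≤ M₁.normalCore := by
    intro x hx g
    by_cases hx1 : x = 1
    · rw [hx1, mul_one, mul_inv_cancel]; exact M₁.one_mem
    · exact conj_mem_of_not_conj S A M₁ hAS (fun y hy => hy.2) hclosed
        (fun y hy s hs => mem_centralizer_iff.1 hy.1.2 s hs) hcent hx (hAi x hx)
        (fun e => hx1 (σ.injective (e.trans (map_one σ).symm))) (hnotconj x hx hx1) g
  have hle : Subgroup.normalClosure (A : Set G) ≤ M₁ :=
    (normalClosure_le_normal hall).trans (normalCore_le M₁)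
  refine hM₁top (eq_top_iff.2 (le_trans (Eq.ge ?_) hle))
  refine hsimp _ normalClosure_normal hAi.normalClosure fun e => ha₀1 ?_
  have := subset_normalClosure (s := (A : Set G)) ha₀
  rwa [e, SetLike.mem_coe, Subgroup.mem_bot] at this

/-- A finite group without a section `S₄` with a coprime automorphism of prime order fixing no
involution is solvable. -/
theorem Hyp.solvable {G : Type u} [Group G] [Finite G] {σ : MulAut G} {r : ℕ} (h : Hyp σ r)
    (hfree : ¬ Cfsg.Involves (Equiv.Perm (Fin 4)) G) : Group.IsSolvable G := by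
  induction hn : Nat.card G using Nat.strong_induction_on generalizing G σ with
  | _ n ih =>
  subst hn
  by_contra hns
  refine false_of_minimal h hfree hns (fun H hH hne => ?_) fun N hN hNi hne => ?_
  · exact ih _ (CfsgLib.Solvable.card_lt_of_ne_top hne) (h.sub H hH)
      (fun hh => hfree (CfsgLib.ZJ.involves_of_subgroup H hh)) rfl
  · by_contra htop
    refine hns ?_
    haveI := hN
    haveI : Group.IsSolvable N := ih _ (CfsgLib.Solvable.card_lt_of_ne_top htop) (h.sub N hNi)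
      (fun hh => hfree (CfsgLib.ZJ.involves_of_subgroup N hh)) rfl
    haveI : Group.IsSolvable (G ⧸ N) := ih _ (CfsgLib.Solvable.card_quotient_lt hne) (h.quotient N hNi)
      (fun hh => hfree (CfsgLib.ZJ.involves_of_quotient N hh)) rfl
    exact Group.isSolvable_of_ker_le_range N.subtype (QuotientGroup.mk' N) (by simp)

end CfsgLib.OddFixed
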