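import Cfsg.Agent.OddFixed.Basic
import Cfsg.Agent.PQFpf.HallHigmanSub
import Cfsg.Agent.FGSB.SquareCount

/-!
Odd operators normalised by an automorphism without fixed points on a two-group.
-/

set_option autoImplicit false
set_option linter.style.haveILetI false
set_option linter.unusedSectionVars false

namespace CfsgLib.OddFixed

open Subgroup

universe u

/-- A group of operators of odd prime power order commutes with the operator fixing nothing. -/
theorem module_commute {V : Type u} [CommGroup V] [Finite V] {p q r : ℕ} [Fact p.Prime] [Fact q.Prime]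
    (hr : r.Prime) (hpq : p ≠ q) (hpr : p ≠ r) (hqr : q ≠ r) (hq2 : q ≠ 2) (hV : ∀ v : V, v ^ p = 1)
    (c : MulAut V) (hc : c ^ r = 1) (hfix : ∀ v, c v = v → v = 1) (S : Subgroup (MulAut V))
    (hS : IsPGroup q S) (hcS : ∀ x ∈ S, c * x * c⁻¹ ∈ S) : ∀ x ∈ S, c * x * c⁻¹ = x := by
  by_contra hne
  push Not at hne
  obtain ⟨R, -, ⟨hRS, hRinv, hRmove⟩, hRmin⟩ := Finite.exists_le_minimal
    (p := fun R : Subgroup (MulAut V) => R ≤ S ∧ (∀ x ∈ R, c * x * c⁻¹ ∈ R) ∧ ∃ x ∈ R, c * x * c⁻¹ ≠ x)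
    (a := S) ⟨le_rfl, hcS, hne⟩
  have hcN : c ∈ Subgroup.normalizer (R : Set (MulAut V)) :=
    Subgroup.mem_normalizer_fintype fun x hx => hRinv x hx
  let D : CfsgLib.PQFpf.PrimeOp R V p q r :=
    { ρ := R.subtype
      inj := R.subtype_injective
      b := R.normalizerMonoidHom ⟨c, hcN⟩
      c := c
      hS := hS.to_le hRS
      hV := hV
      hb := by
        rw [← map_pow, show (⟨c, hcN⟩ : Subgroup.normalizer (R : Set (MulAut V))) ^ r = 1 from
          Subtype.ext hc, map_one]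
      hc := hc
      hb1 := fun h => by
        obtain ⟨y, hy, hcy⟩ := hRmove
        exact hcy (congrArg (fun e : MulAut R => ((e ⟨y, hy⟩ : R) : MulAut V)) h)
      compat := fun x v => by
        show c ((x : MulAut V) v) = (c * (x : MulAut V) * c⁻¹) (c v)
        simp
      fixFree := hfix
      hr := hr
      hqr := hqr
      hpq := hpq
      hpr := hpr }
  have hmin : ∀ K : Subgroup R, K ≠ ⊤ → (∀ u ∈ K, D.b u ∈ K) → ∀ u ∈ K, D.b u = u := by
    intro K hK hinv u hu
    by_contra hmv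
    have hle : K.map R.subtype ≤ R := Subgroup.map_subtype_le K
    have h2 : R ≤ K.map R.subtype := hRmin ⟨hle.trans hRS,
      (by rintro _ ⟨w, hw, rfl⟩; exact ⟨D.b w, hinv w hw, rfl⟩),
      (u : MulAut V), ⟨u, hu, rfl⟩, fun e => hmv (Subtype.ext e)⟩ hle
    refine hK (eq_top_iff.2 fun w _ => ?_)
    obtain ⟨w', hw', e⟩ := h2 w.2
    exact (Subtype.ext e : w' = w) ▸ hw'
  exact hq2 (D.exceptional hmin).1

/-- Automorphisms act on the Frattini quotient. -/
noncomputable def fratHom (P : Type u) [Group P] : MulAut P →* MulAut (P ⧸ frattini P) :=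
  MonoidHom.mk'
    (fun φ => QuotientGroup.congr (frattini P) (frattini P) φ
      (characteristic_iff_map_eq.1 inferInstance φ))
    fun φ ψ => MulEquiv.ext fun x => by
      obtain ⟨y, rfl⟩ := QuotientGroup.mk'_surjective (frattini P) x
      rfl

theorem fratHom_mk {P : Type u} [Group P] (φ : MulAut P) (x : P) :
    fratHom P φ (x : P ⧸ frattini P) = ((φ x : P) : P ⧸ frattini P) := rfl

variable {G : Type u} [Group G] [Finite G] {σ : MulAut G} {r : ℕ}

/-- An invariant subgroup of odd prime power order acting on an invariant two-group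
meets the automorphism trivially modulo the centralizer. -/
theorem Hyp.inv_mul_mem_centralizer (h : Hyp σ r) {P Q : Subgroup G} (hP : IsPGroup 2 P) {q : ℕ}
    [Fact q.Prime] (hq2 : q ≠ 2) (hQ : IsPGroup q Q) (hPi : Inv σ P) (hQi : Inv σ Q)
    (hQP : Q ≤ Subgroup.normalizer (P : Set G)) {x : G} (hx : x ∈ Q) :
    x⁻¹ * σ x ∈ Subgroup.centralizer (P : Set G) := by
  haveI : Fact (Nat.Prime 2) := ⟨Nat.prime_two⟩
  by_cases hP1 : P = ⊥
  · rw [hP1, mem_centralizer_iff]
    intro y hy
    rw [Subgroup.mem_bot.1 hy, one_mul, mul_one]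
  by_cases hQ1 : Q = ⊥
  · rw [hQ1, Subgroup.mem_bot] at hx
    rw [hx, map_one, inv_one, one_mul]
    exact one_mem _
  have hdiv : ∀ {p : ℕ} [Fact p.Prime] (H : Subgroup G), IsPGroup p H → H ≠ ⊥ → p ∣ Nat.card G := by
    intro p _ H hH hH1
    haveI := (nontrivial_iff_ne_bot H).2 hH1
    obtain ⟨k, hk0, hk⟩ := hH.nontrivial_iff_card.1 inferInstance
    exact ((dvd_pow_self p hk0.ne').trans hk.symm.dvd).trans H.card_subgroup_dvd_card
  have h2r : 2 ≠ r := fun e => h.cop (e ▸ hdiv P hP hP1)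
  have hqr : q ≠ r := fun e => h.cop (e ▸ hdiv Q hQ hQ1)
  -- the Frattini quotient of the two-group
  obtain ⟨hpow, hcomm⟩ := CfsgLib.FSCount.quotient_frattini_facts hP
  letI cg : CommGroup (P ⧸ frattini P) := { (inferInstance : Group (P ⧸ frattini P)) with
    mul_comm := (Subgroup.Normal.quotient_commutative_iff_commutator_le.2 hcomm).is_comm.comm }
  let ψ : Q →* MulAut (P ⧸ frattini P) :=
    ((fratHom P).comp P.normalizerMonoidHom).comp (Subgroup.inclusion hQP)
  let c : MulAut (P ⧸ frattini P) := fratHom P (restr σ P hPi)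
  have hconj : ∀ y : Q, c * ψ y * c⁻¹ = ψ ⟨σ y, hQi y y.2⟩ := fun y => by
    rw [mul_inv_eq_iff_eq_mul]
    refine MulEquiv.ext fun v => ?_
    obtain ⟨w, rfl⟩ := QuotientGroup.mk_surjective v
    refine congrArg (fun e : P => (e : P ⧸ frattini P)) (Subtype.ext ?_)
    show σ ((y : G) * (w : G) * (y : G)⁻¹) = σ (y : G) * σ (w : G) * (σ (y : G))⁻¹
    rw [map_mul, map_mul, map_inv]
  have hcr : c ^ r = 1 := by
    have e : restr σ P hPi ^ r = 1 := (h.sub P hPi).pow_eq
    rw [← map_pow, e, map_one]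
  have hfix : ∀ v, c v = v → v = 1 := by
    intro v hv
    obtain ⟨w, rfl⟩ := QuotientGroup.mk_surjective v
    have hv' : ((restr σ P hPi w : P) : P ⧸ frattini P) = (w : P ⧸ frattini P) := hv
    rw [eq_comm, QuotientGroup.eq] at hv'
    obtain ⟨d, hd, hdw⟩ := (h.sub P hPi).fixed_in_coset (frattini P)
      (Inv.of_char _ _) hv'
    have hd1 : d = 1 := Subtype.ext (h.eq_one_of_two hP d.2 (congrArg Subtype.val hd))
    rw [hd1, mul_one] at hdw
    exact (QuotientGroup.eq_one_iff w).2 (inv_mem_iff.1 hdw)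
  have hall := module_commute (p := 2) (q := q) h.prime hq2.symm h2r hqr hq2
    (fun v => by
      obtain ⟨w, rfl⟩ := QuotientGroup.mk_surjective v
      rw [← QuotientGroup.mk_pow, QuotientGroup.eq_one_iff]
      exact hpow w)
    c hcr hfix ψ.range (hQ.of_surjective ψ.rangeRestrict ψ.rangeRestrict_surjective)
    (by rintro _ ⟨y, rfl⟩; exact ⟨_, (hconj y).symm⟩) (ψ ⟨x, hx⟩) ⟨_, rfl⟩
  rw [hconj] at hall
  set y : Q := (⟨x, hx⟩ : Q)⁻¹ * ⟨σ x, hQi x hx⟩
  have hy : ψ y = 1 := by rw [map_mul, map_inv, hall, inv_mul_cancel]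
  -- a coprime action trivial modulo the Frattini subgroup
  let φ : zpowers y →* MulAut P :=
    (P.normalizerMonoidHom.comp (Subgroup.inclusion hQP)).comp (zpowers y).subtype
  letI := MulDistribMulAction.compHom P φ
  have hcop : (Nat.card (zpowers y)).Coprime (Nat.card P) := by
    obtain ⟨i, hi⟩ := hQ.exists_card_eq
    obtain ⟨j, hj⟩ := hP.exists_card_eq
    rw [hj]
    exact Nat.Coprime.coprime_dvd_left ((zpowers y).card_subgroup_dvd_card.trans hi.dvd)
      (((Nat.coprime_primes Fact.out Nat.prime_two).2 hq2).pow i j)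
  have hyk : ∀ a : zpowers y, ψ (a : Q) = 1 := fun a => by
    obtain ⟨i, hi⟩ := Subgroup.mem_zpowers_iff.1 a.2
    rw [← hi, map_zpow, hy, one_zpow]
  have htriv := CfsgLib.Coprime.smul_eq_self_of_trivial_mod_frattini (A := zpowers y) (G := P) hcop
    (fun a w => by
      refine QuotientGroup.eq.1 ?_
      exact (DFunLike.congr_fun (hyk a) (w : P ⧸ frattini P)).symm)
    ⟨y, mem_zpowers y⟩
  rw [mem_centralizer_iff]
  intro w hw
  have hw2 : (y : G) * w * (y : G)⁻¹ = w := congrArg Subtype.val (htriv ⟨w, hw⟩)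
  exact (mul_inv_eq_iff_eq_mul.1 hw2).symm

end CfsgLib.OddFixed
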