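import Cfsg.Agent.OddFixed.Shult
import Cfsg.Prelude.Def_Local
import Cfsg.Agent.Solvable.Fitting

/-!
Solvable groups with a coprime automorphism of prime order fixing no involution.
-/

set_option autoImplicit false
set_option linter.style.haveILetI false
set_option linter.unusedSectionVars false

namespace CfsgLib.OddFixed

open Subgroup CfsgLib.Solvable

universe u

variable {G : Type u} [Group G] [Finite G] {σ : MulAut G} {r : ℕ}

theorem inv_pPrimeCore (σ : MulAut G) (p : ℕ) : Inv σ (Cfsg.pPrimeCore p G) := by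
  intro x hx
  exact le_pPrimeCore p (Subgroup.Normal.map inferInstance σ.toMonoidHom σ.surjective)
    (by rw [card_map_of_injective σ.injective]; exact coprime_card_pPrimeCore p) ⟨x, hx, rfl⟩

theorem inv_pCore (σ : MulAut G) (p : ℕ) : Inv σ (Cfsg.pCore p G) := by
  intro x hx
  exact le_pCore p (Subgroup.Normal.map inferInstance σ.toMonoidHom σ.surjective)
    ((isPGroup_pCore p).map σ.toMonoidHom) ⟨x, hx, rfl⟩

theorem inv_pPrimePCore (σ : MulAut G) (p : ℕ) : Inv σ (Cfsg.pPrimePCore p G) := by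
  intro x hx
  exact inv_pCore (quot σ _ (inv_pPrimeCore σ p)) p (x : G ⧸ Cfsg.pPrimeCore p G) hx

theorem odd_card_pPrimeCore : Odd (Nat.card (Cfsg.pPrimeCore 2 G)) :=
  Nat.coprime_two_right.1 (coprime_card_pPrimeCore 2)

/-- The fixed points as a subgroup. -/
def fixSub (σ : MulAut G) : Subgroup G := σ.toMonoidHom.eqLocus (MonoidHom.id G)

theorem mem_fixSub {x : G} : x ∈ fixSub σ ↔ σ x = x := Iff.rfl

/-- A group all whose elements are fixed has odd order. -/
theorem Hyp.odd_card_of_fixed (h : Hyp σ r) (hfix : ∀ x, σ x = x) : Odd (Nat.card G) := by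
  by_contra ho
  haveI : Fact (Nat.Prime 2) := ⟨Nat.prime_two⟩
  obtain ⟨x, hx⟩ := exists_prime_orderOf_dvd_card' 2 (Nat.not_odd_iff_even.1 ho).two_dvd
  have := h.odd_order (hfix x)
  rw [hx] at this
  exact absurd this (by decide)

/-- In a solvable group without core the automorphism is trivial modulo the two-core. -/
theorem Hyp.trivial_mod_pCore [Group.IsSolvable G] (h : Hyp σ r) (hO : Cfsg.pPrimeCore 2 G = ⊥)
    (x : G) : x⁻¹ * σ x ∈ Cfsg.pCore 2 G := by
  haveI : Fact (Nat.Prime 2) := ⟨Nat.prime_two⟩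
  set P := Cfsg.pCore 2 G with hPdef
  set f := QuotientGroup.mk' P with hfdef
  have hf : Function.Surjective f := QuotientGroup.mk'_surjective P
  have hker : f.ker = P := QuotientGroup.ker_mk' P
  set τ := quot σ P (inv_pCore σ 2) with hτdef
  have hτf : ∀ g, τ (f g) = f (σ g) := fun g => rfl
  have hτ : Hyp τ r := h.quotient P (inv_pCore σ 2)
  have hcore : ∀ q : Nat.Primes, Cfsg.pCore (q : ℕ) (G ⧸ P) ≤ fixSub τ := by
    intro q
    haveI := Fact.mk q.2
    set L := (Cfsg.pCore (q : ℕ) (G ⧸ P)).comap f with hLdef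
    haveI : L.Normal := Subgroup.Normal.comap inferInstance f
    have hLi : Inv σ L := fun y hy => by
      show f (σ y) ∈ Cfsg.pCore (q : ℕ) (G ⧸ P)
      rw [← hτf]
      exact inv_pCore τ (q : ℕ) (f y) hy
    by_cases hq2 : (q : ℕ) = 2
    · have hL2 : IsPGroup 2 L := by
        have := (isPGroup_pCore (G := G ⧸ P) (q : ℕ))
        rw [hq2] at this
        rw [hLdef, hq2]
        exact this.comap_of_ker_isPGroup f (by rw [hker]; exact isPGroup_pCore 2)
      intro y hy
      obtain ⟨g, rfl⟩ := hf y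
      have hg : g ∈ P := le_pCore 2 inferInstance hL2 hy
      have h1 : f g = 1 := (QuotientGroup.eq_one_iff g).2 hg
      rw [mem_fixSub, h1, map_one]
    obtain ⟨Q, hQi⟩ := (h.sub L hLi).exists_sylow (q : ℕ)
    set Q' := (Q : Subgroup L).map L.subtype with hQ'def
    have hQ'i : Inv σ Q' := by
      rintro _ ⟨y, hy, rfl⟩
      exact ⟨_, hQi y hy, rfl⟩
    have hQP : IsPGroup (q : ℕ) Q' := Q.2.map L.subtype
    have hdisj : Q' ⊓ P = ⊥ :=
      (IsPGroup.disjoint_of_ne (q : ℕ) 2 hq2 _ _ hQP (isPGroup_pCore 2)).eq_bot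
    have hQfix : ∀ y ∈ Q', σ y = y := fun y hy => by
      have h1 : y⁻¹ * σ y ∈ P := CfsgLib.Fitting.centralizer_pCore_le hO
        (h.inv_mul_mem_centralizer (isPGroup_pCore 2) hq2 hQP (inv_pCore σ 2) hQ'i
          (Subgroup.le_normalizer_of_normal) hy)
      have h2 : y⁻¹ * σ y ∈ Q' ⊓ P := ⟨Q'.mul_mem (Q'.inv_mem hy) (hQ'i y hy), h1⟩
      rw [hdisj, Subgroup.mem_bot, inv_mul_eq_one] at h2
      exact h2.symm
    intro y hy
    let g : L →* Cfsg.pCore (q : ℕ) (G ⧸ P) := f.subgroupComap _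
    have hg : Function.Surjective g := f.subgroupComap_surjective_of_surjective _ hf
    obtain ⟨z, hz, hzy⟩ : (⟨y, hy⟩ : Cfsg.pCore (q : ℕ) (G ⧸ P)) ∈ (Q : Subgroup L).map g := by
      have h1 : ((Q.mapSurjective hg : Sylow (q : ℕ) (Cfsg.pCore (q : ℕ) (G ⧸ P))) :
          Subgroup (Cfsg.pCore (q : ℕ) (G ⧸ P))) = ⊤ :=
        ((Q.mapSurjective hg).3 ((isPGroup_pCore (G := G ⧸ P) (q : ℕ)).of_equiv
          Subgroup.topEquiv.symm) le_top).symm
      rw [Sylow.coe_mapSurjective] at h1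
      rw [h1]
      exact mem_top _
    have h2 : f (z : G) = y := congrArg Subtype.val hzy
    rw [mem_fixSub, ← h2, hτf, hQfix z ⟨z, hz, rfl⟩]
  have hF : Cfsg.fittingSubgroup (G ⧸ P) ≤ fixSub τ := by
    rw [fittingSubgroup_eq_iSup_pCore]
    exact iSup_le hcore
  have key : ∀ y : G ⧸ P, τ y = y := by
    intro y
    have hy : y⁻¹ * τ y ∈ Cfsg.fittingSubgroup (G ⧸ P) := by
      refine CfsgLib.Fitting.centralizer_fittingSubgroup_le_of_solvable (mem_centralizer_iff.2 fun z hz => ?_)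
      have h1 : y * z * y⁻¹ ∈ Cfsg.fittingSubgroup (G ⧸ P) := fittingSubgroup_normal.conj_mem z hz y
      have h2 : τ y * z * (τ y)⁻¹ = y * z * y⁻¹ := by
        have h3 : τ (y * z * y⁻¹) = y * z * y⁻¹ := hF h1
        have h4 : τ z = z := hF hz
        rw [map_mul, map_mul, map_inv, h4] at h3
        exact h3
      calc z * (y⁻¹ * τ y) = y⁻¹ * (y * z * y⁻¹) * τ y := by group
        _ = y⁻¹ * (τ y * z * (τ y)⁻¹) * τ y := by rw [h2]
        _ = y⁻¹ * τ y * z := by group
    have hfix : τ (y⁻¹ * τ y) = y⁻¹ * τ y := hF hy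
    have hn : ∀ n : ℕ, (τ ^ n) y = y * (y⁻¹ * τ y) ^ n := by
      intro n
      induction n with
      | zero => simp
      | succ n ih =>
        rw [pow_succ', MulAut.mul_apply, ih, map_mul, map_pow, hfix,
          pow_succ' (y⁻¹ * τ y), ← mul_assoc y, mul_inv_cancel_left]
    have h1 : (y⁻¹ * τ y) ^ r = 1 := by
      have := hn r
      rw [hτ.pow_eq] at this
      exact left_eq_mul.1 this
    have h2 : y⁻¹ * τ y = 1 :=
      (powCoprime (G := G ⧸ P) ((Nat.Prime.coprime_iff_not_dvd hτ.prime).2 hτ.cop).symm).injective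
        (by simpa using h1)
    exact (inv_mul_eq_one.1 h2).symm
  exact QuotientGroup.eq.1 (key (f x)).symm

/-- The structure of a solvable group with such an automorphism. -/
theorem Hyp.solvable_structure [Group.IsSolvable G] (h : Hyp σ r) :
    ¬ 2 ∣ (Cfsg.pPrimePCore 2 G).index ∧
      ∀ g : G, ∃ c, σ c = c ∧ g⁻¹ * c ∈ Cfsg.pPrimePCore 2 G := by
  set O := Cfsg.pPrimeCore 2 G with hOdef
  have hO := inv_pPrimeCore σ 2 (G := G)
  have h' := h.quotient O hO
  have hbot : Cfsg.pPrimeCore 2 (G ⧸ O) = ⊥ := CfsgLib.Fitting.pPrimeCore_quotient_eq_bot 2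
  have hmem : ∀ g : G, g⁻¹ * σ g ∈ Cfsg.pPrimePCore 2 G := fun g => by
    have := h'.trivial_mod_pCore hbot (g : G ⧸ O)
    exact this
  refine ⟨fun hd => ?_, fun g => h.fixed_in_coset _ (inv_pPrimePCore σ 2) (hmem g)⟩
  have hidx : (Cfsg.pPrimePCore 2 G).index = (Cfsg.pCore 2 (G ⧸ O)).index :=
    index_comap_of_surjective _ (QuotientGroup.mk'_surjective O)
  have hodd := (h'.quotient _ (inv_pCore _ 2)).odd_card_of_fixed fun x => by
    obtain ⟨y, rfl⟩ := QuotientGroup.mk_surjective x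
    rw [quot_mk, eq_comm, QuotientGroup.eq]
    exact h'.trivial_mod_pCore hbot y
  rw [hidx, Subgroup.index_eq_card] at hd
  exact Nat.two_dvd_ne_zero.2 (Nat.odd_iff.1 hodd) hd

end CfsgLib.OddFixed
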